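import Mathlib.GroupTheory.Sylow
import Mathlib.GroupTheory.Solvable
import Mathlib.GroupTheory.Nilpotent
import Mathlib.GroupTheory.SchurZassenhaus

/-!
Sets of `π`-elements and the order type of a finite group.
-/

namespace CfsgLib.OrderType

open Subgroup
open scoped Pointwise

/-- The set of elements of `G` whose order involves only primes in `π`. -/
def piElts (π : Set ℕ) (G : Type*) [Group G] : Set G :=
  {g | ∀ q : ℕ, q.Prime → q ∣ orderOf g → q ∈ π}

theorem mem_piElts {π : Set ℕ} {G : Type*} [Group G] {g : G} :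
    g ∈ piElts π G ↔ ∀ q : ℕ, q.Prime → q ∣ orderOf g → q ∈ π := Iff.rfl

/-- The `π`-elements form a subgroup. -/
def IsPiClosedG (π : Set ℕ) (G : Type*) [Group G] : Prop :=
  ∃ K : Subgroup G, (K : Set G) = piElts π G

variable {G : Type*} [Group G] {π : Set ℕ}

theorem normal_of_eq_piElts {K : Subgroup G} (hK : (K : Set G) = piElts π G) : K.Normal := by
  constructor
  intro n hn g
  rw [← SetLike.mem_coe, hK] at hn ⊢
  intro q hq hd
  refine hn q hq ?_
  have : orderOf (g * n * g⁻¹) = orderOf n := by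
    rw [← MulAut.conj_apply, MulEquiv.orderOf_eq]
  rwa [← this]

theorem prime_dvd_card_of_eq [Finite G] {K : Subgroup G} (hK : (K : Set G) = piElts π G)
    {q : ℕ} (hq : q.Prime) (hd : q ∣ Nat.card K) : q ∈ π := by
  have := Fact.mk hq
  obtain ⟨x, hx⟩ := exists_prime_orderOf_dvd_card' q hd
  have hmem : (x : G) ∈ piElts π G := by rw [← hK]; exact x.2
  exact hmem q hq (by rw [orderOf_coe, hx])

theorem not_dvd_index_of_eq [Finite G] {K : Subgroup G} (hK : (K : Set G) = piElts π G)
    {q : ℕ} (hq : q.Prime) (hqπ : q ∈ π) : ¬ q ∣ K.index := by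
  have := Fact.mk hq
  intro hd
  obtain ⟨P⟩ : Nonempty (Sylow q G) := inferInstance
  have hPK : (P : Subgroup G) ≤ K := by
    intro x hx
    rw [← SetLike.mem_coe, hK]
    intro r hr hrd
    obtain ⟨k, hk⟩ := P.isPGroup' ⟨x, hx⟩
    have hxk : orderOf x ∣ q ^ k := orderOf_dvd_of_pow_eq_one (congrArg Subtype.val hk)
    have hrq : r = q := (Nat.prime_dvd_prime_iff_eq hr hq).1 (hr.dvd_of_dvd_pow (hrd.trans hxk))
    exact hrq ▸ hqπ
  exact P.not_dvd_index (hd.trans (index_dvd_of_le hPK))

/-- A normal `π`-subgroup of `π'`-index consists of all the `π`-elements. -/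
theorem eq_piElts [Finite G] (K : Subgroup G) [K.Normal]
    (h1 : ∀ q : ℕ, q.Prime → q ∣ Nat.card K → q ∈ π)
    (h2 : ∀ q : ℕ, q.Prime → q ∈ π → ¬ q ∣ K.index) : (K : Set G) = piElts π G := by
  ext g
  constructor
  · intro hg q hq hd
    exact h1 q hq (hd.trans (orderOf_coe (⟨g, hg⟩ : K) ▸ orderOf_dvd_natCard (⟨g, hg⟩ : K)))
  · intro hg
    rw [SetLike.mem_coe, ← QuotientGroup.eq_one_iff, ← orderOf_eq_one_iff]
    by_contra hne
    obtain ⟨q, hq, hd⟩ := Nat.exists_prime_and_dvd hne
    exact h2 q hq (hg q hq (hd.trans (orderOf_map_dvd (QuotientGroup.mk' K) g)))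
      (hd.trans (K.index_eq_card ▸ orderOf_dvd_natCard _))

/-- Two divisors of `N` with the same prime content split are equal. -/
theorem dvd_of_pi_split {N a b : ℕ} (ha : a ∣ N) (hb : b ∣ N)
    (h1 : ∀ q : ℕ, q.Prime → q ∣ a → q ∈ π)
    (h2 : ∀ q : ℕ, q.Prime → q ∈ π → ¬ q ∣ N / b) : a ∣ b := by
  have hcop : a.Coprime (N / b) := Nat.coprime_of_dvd fun q hq hqa hqb => h2 q hq (h1 q hq hqa) hqb
  refine hcop.dvd_of_dvd_mul_right ?_
  rwa [Nat.mul_div_cancel' hb]

/-- The order type of a finite group determines any cardinality of an order-defined set. -/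
theorem card_subtype_orderOf_eq {H : Type*} [Group H] [Finite G] [Finite H]
    (hT : ∀ m : ℕ, Nat.card {g : G // orderOf g = m} = Nat.card {h : H // orderOf h = m})
    (P : ℕ → Prop) : Nat.card {g : G // P (orderOf g)} = Nat.card {h : H // P (orderOf h)} := by
  have e : ∀ m : ℕ, {g : G // orderOf g = m} ≃ {h : H // orderOf h = m} := fun m =>
    Classical.choice ((Finite.card_eq).1 (hT m))
  let e2 : G ≃ H := Equiv.ofFiberEquiv e
  refine Nat.card_congr (Equiv.subtypeEquiv e2 fun g => ?_)
  rw [show orderOf (e2 g) = orderOf g from Equiv.ofFiberEquiv_map e g]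

theorem card_eq_of_orderType {H : Type*} [Group H] [Finite G] [Finite H]
    (hT : ∀ m : ℕ, Nat.card {g : G // orderOf g = m} = Nat.card {h : H // orderOf h = m}) :
    Nat.card G = Nat.card H := by
  have := card_subtype_orderOf_eq hT (fun _ => True)
  rwa [Nat.card_congr (Equiv.subtypeUnivEquiv fun _ => trivial),
    Nat.card_congr (Equiv.subtypeUnivEquiv fun _ => trivial)] at this

/-- If two groups have the same order type, closedness for `π` passes to `insert t π`. -/
theorem isPiClosedG_insert {H : Type*} [Group H] [Finite G] [Finite H]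
    (hT : ∀ m : ℕ, Nat.card {g : G // orderOf g = m} = Nat.card {h : H // orderOf h = m})
    (t : ℕ) (ht : t.Prime) (htπ : t ∉ π) (hG : IsPiClosedG (insert t π) G)
    (hH : IsPiClosedG π H) :
    ∃ (K L : Subgroup H), K ≤ L ∧ (K : Set H) = piElts π H ∧
      (L : Set H) = piElts (insert t π) H ∧ (∃ Q : Subgroup H, IsPGroup t Q ∧ L = K ⊔ Q) := by
  obtain ⟨A, hA⟩ := hG
  obtain ⟨K, hK⟩ := hH
  have := normal_of_eq_piElts hK
  have := Fact.mk ht
  obtain ⟨Q⟩ : Nonempty (Sylow t H) := inferInstance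
  set L : Subgroup H := K ⊔ Q with hL
  have hKQ : (Nat.card K).Coprime (Nat.card (Q : Subgroup H)) := by
    obtain ⟨k, hk⟩ := Q.isPGroup'.exists_card_eq
    rw [hk]
    exact Nat.Coprime.pow_right _ ((Nat.Prime.coprime_iff_not_dvd ht).2
      fun hd => htπ (prime_dvd_card_of_eq hK ht hd)).symm
  have hdisj : Disjoint K (Q : Subgroup H) := disjoint_of_coprime_natCard hKQ
  have hcard : Nat.card L = Nat.card K * Nat.card (Q : Subgroup H) := by
    have e : (L : Set H) = (K : Set H) * ((Q : Subgroup H) : Set H) := by rw [hL, ← normal_mul]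
    have h2 := Nat.card_congr (Equiv.ofInjective _ (Subgroup.mul_injective_of_disjoint hdisj))
    rw [Nat.card_prod] at h2
    rw [h2]
    refine Nat.card_congr (Equiv.setCongr ?_)
    rw [e]
    ext x
    simp [Set.mem_mul, Prod.exists] <;> rfl
  have hsub : (L : Set H) ⊆ piElts (insert t π) H := by
    intro g hg q hq hd
    have hd' : q ∣ Nat.card L := hd.trans
      (orderOf_coe (⟨g, hg⟩ : L) ▸ orderOf_dvd_natCard (⟨g, hg⟩ : L))
    rw [hcard] at hd'
    rcases hq.dvd_mul.1 hd' with h | h
    · exact Set.mem_insert_of_mem _ (prime_dvd_card_of_eq hK hq h)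
    · obtain ⟨k, hk⟩ := Q.isPGroup'.exists_card_eq
      rw [hk] at h
      exact (Nat.prime_dvd_prime_iff_eq hq ht).1 (hq.dvd_of_dvd_pow h) ▸ Set.mem_insert _ _
  have hGH := card_eq_of_orderType hT
  have hc : Nat.card (piElts (insert t π) H) = Nat.card A := by
    rw [show Nat.card A = Nat.card (piElts (insert t π) G) from by rw [← hA]; rfl]
    exact (card_subtype_orderOf_eq hT
      (fun n => ∀ q : ℕ, q.Prime → q ∣ n → q ∈ insert t π)).symm
  have hAdvd : Nat.card A ∣ Nat.card L := by
    refine dvd_of_pi_split (N := Nat.card H) (π := insert t π) (hGH ▸ A.card_subgroup_dvd_card)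
      L.card_subgroup_dvd_card (fun q hq hd => prime_dvd_card_of_eq hA hq hd) ?_
    intro q hq hqπ hd
    rw [← L.index_mul_card, Nat.mul_div_cancel _ Nat.card_pos] at hd
    rcases Set.mem_insert_iff.1 hqπ with rfl | h
    · exact Q.not_dvd_index (hd.trans (index_dvd_of_le le_sup_right))
    · exact not_dvd_index_of_eq hK hq h (hd.trans (index_dvd_of_le le_sup_left))
  refine ⟨K, L, le_sup_left, hK, ?_, Q, Q.isPGroup', rfl⟩
  refine Set.eq_of_subset_of_ncard_le hsub ?_ (Set.toFinite _)
  rw [← Nat.card_coe_set_eq, hc, ← Nat.card_coe_set_eq]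
  exact Nat.le_of_dvd Nat.card_pos hAdvd

theorem isPiClosedG_congr {π' : Set ℕ} (h : piElts π G = piElts π' G) :
    IsPiClosedG π G ↔ IsPiClosedG π' G := by simp [IsPiClosedG, h]

/-- An extension of a solvable `K` by a `t`-group inside `G` is solvable. -/
theorem isSolvable_sup_pGroup [Finite G] {t : ℕ} [Fact t.Prime] (K Q : Subgroup G) [K.Normal]
    (hK : Group.IsSolvable K) (hQ : IsPGroup t Q) : Group.IsSolvable (K ⊔ Q : Subgroup G) := by
  set L : Subgroup G := K ⊔ Q
  let f : L →* G ⧸ K := (QuotientGroup.mk' K).comp L.subtype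
  have hrange : f.range = Q.map (QuotientGroup.mk' K) := by
    rw [MonoidHom.range_eq_map, ← Subgroup.map_map, ← MonoidHom.range_eq_map, Subgroup.range_subtype]
    show (K ⊔ Q).map _ = _
    rw [Subgroup.map_sup, (Subgroup.map_eq_bot_iff (K)).2 (by simp), bot_sup_eq]
  have := hQ.map (QuotientGroup.mk' K)
  have : Group.IsNilpotent (Q.map (QuotientGroup.mk' K)) := this.isNilpotent
  have hsR : Group.IsSolvable f.range := by rw [hrange]; infer_instance
  have hker : f.ker = K.subgroupOf L := by ext x; simp [f, Subgroup.mem_subgroupOf]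
  have hsK : Group.IsSolvable f.ker := by
    rw [hker]
    exact Group.isSolvable_of_isSolvable_injective (f := (subgroupOfEquivOfLe le_sup_left).toMonoidHom)
      (subgroupOfEquivOfLe le_sup_left).injective
  exact Group.isSolvable_of_ker_le_range f.ker.subtype f.rangeRestrict (by simp)

end CfsgLib.OrderType
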